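import Mathlib
import Cfsg.Agent.Lib.ChDeg.Deg
import Cfsg.Agent.Lib.Char.Kernel
import Cfsg.Agent.Lib.Char.Ortho
import Cfsg.Agent.Lib.Core.Basic

/-!
# Orbits of the automorphism group of a finite non-abelian group
-/

set_option autoImplicit false

namespace CfsgLib.AutOrb

open Subgroup Cfsg MulAction
open scoped commutatorElement

variable {G : Type*} [Group G]

theorem index_prime_aux {M : Subgroup G} [M.Normal] {p : ℕ} (hp : p.Prime) (hM : M.index = p)
    {a : G} (ha : a ∉ M) :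
    (∀ g, ∃ m ∈ M, ∃ i : ℤ, g = m * a ^ i) ∧ ∀ i : ℤ, a ^ i ∈ M → (p : ℤ) ∣ i := by
  haveI := Fact.mk hp
  have ha' : (a : G ⧸ M) ≠ 1 := fun e => ha ((QuotientGroup.eq_one_iff _).mp e)
  refine ⟨fun g => ?_, fun i hi => ?_⟩
  · obtain ⟨i, hi⟩ := mem_zpowers_of_prime_card (g' := (g : G ⧸ M)) hM ha'
    refine ⟨g * (a ^ i)⁻¹, (QuotientGroup.eq_one_iff _).mp ?_, i, by simp⟩
    rw [QuotientGroup.mk_mul, QuotientGroup.mk_inv, QuotientGroup.mk_zpow, ← hi, mul_inv_cancel]
  · have : orderOf (a : G ⧸ M) = p := orderOf_eq_prime (hM ▸ pow_card_eq_one') ha'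
    rw [← this, orderOf_dvd_iff_zpow_eq_one, ← QuotientGroup.mk_zpow]
    exact (QuotientGroup.eq_one_iff _).mpr hi

theorem exists_mulAut {M : Subgroup G} [hn : M.Normal] {p : ℕ} (hp : p.Prime) (hM : M.index = p)
    {a a' : G} (ha : a ∉ M) (ha' : a' ∉ M) (hc : ∀ m ∈ M, a' * m * a'⁻¹ = a * m * a⁻¹)
    (hpw : a' ^ p = a ^ p) : ∃ α : MulAut G, α a = a' ∧ ∀ m ∈ M, α m = m := by
  have hz : ∀ (i : ℤ), ∀ m ∈ M, a' ^ i * m * (a' ^ i)⁻¹ = a ^ i * m * (a ^ i)⁻¹ := fun i m hm => by
    have e : (MulAut.conjNormal a' : MulAut M) = MulAut.conjNormal a :=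
      MulEquiv.ext fun x => Subtype.ext (hc x x.2)
    have e2 : (MulAut.conjNormal (a' ^ i) : MulAut M) = MulAut.conjNormal (a ^ i) := by
      rw [map_zpow, map_zpow, e]
    exact congrArg (fun φ : MulAut M => (φ ⟨m, hm⟩ : G)) e2
  have hd : ∀ i : ℤ, (p : ℤ) ∣ i → a' ^ i = a ^ i := by
    rintro _ ⟨k, rfl⟩
    rw [zpow_mul, zpow_mul, zpow_natCast, zpow_natCast, hpw]
  let Γ : Subgroup (G × G) :=
    { carrier := {x | ∃ m ∈ M, ∃ i : ℤ, x = (m * a ^ i, m * a' ^ i)}
      one_mem' := ⟨1, one_mem _, 0, by simp [Prod.ext_iff]⟩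
      mul_mem' := by
        rintro _ _ ⟨m, hm, i, rfl⟩ ⟨n, hn', j, rfl⟩
        refine ⟨m * (a ^ i * n * (a ^ i)⁻¹), mul_mem hm (hn.conj_mem _ hn' _), i + j, Prod.ext ?_ ?_⟩
        · simp [zpow_add, mul_assoc]
        · rw [← hz i n hn']; simp [zpow_add, mul_assoc]
      inv_mem' := by
        rintro _ ⟨m, hm, i, rfl⟩
        refine ⟨a ^ (-i) * m⁻¹ * (a ^ (-i))⁻¹, hn.conj_mem _ (inv_mem hm) _, -i, Prod.ext ?_ ?_⟩
        · simp
        · rw [← hz (-i) _ (inv_mem hm)]; simp }
  obtain ⟨s1, d1⟩ := index_prime_aux hp hM ha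
  obtain ⟨s2, d2⟩ := index_prime_aux hp hM ha'
  obtain ⟨e, he⟩ := exists_mulEquiv_eq_graph (G := Γ)
    ⟨(injective_iff_map_eq_one ((MonoidHom.fst G G).comp Γ.subtype)).mpr (by
      rintro ⟨_, m, hm, i, rfl⟩ h
      change m * a ^ i = 1 at h
      have := hd i (d1 i (eq_inv_of_mul_eq_one_right h ▸ inv_mem hm))
      exact Subtype.ext (Prod.ext h (show m * a' ^ i = 1 by rw [this, h]))), fun g => by
      obtain ⟨m, hm, i, rfl⟩ := s1 g
      exact ⟨⟨_, m, hm, i, rfl⟩, rfl⟩⟩
    ⟨(injective_iff_map_eq_one ((MonoidHom.snd G G).comp Γ.subtype)).mpr (by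
      rintro ⟨_, m, hm, i, rfl⟩ h
      change m * a' ^ i = 1 at h
      have := hd i (d2 i (eq_inv_of_mul_eq_one_right h ▸ inv_mem hm))
      exact Subtype.ext (Prod.ext (show m * a ^ i = 1 by rw [← this, h]) h)), fun g => by
      obtain ⟨m, hm, i, rfl⟩ := s2 g
      exact ⟨⟨_, m, hm, i, rfl⟩, rfl⟩⟩
  have h : ∀ x ∈ Γ, e x.1 = x.2 := fun x hx => by rw [he] at hx; exact hx
  exact ⟨e, h (a, a') ⟨1, one_mem _, 1, by simp⟩, fun m hm => h (m, m) ⟨m, hm, 0, by simp⟩⟩

theorem card_orbits_le {A X : Type*} [Group A] [MulAction A X] [Fintype X] (w : X → ℚ)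
    (hw : ∀ x, 1 ≤ w x * Nat.card (orbit A x)) :
    (Nat.card (orbitRel.Quotient A X) : ℚ) ≤ ∑ x, w x := by
  classical
  haveI : Fintype (orbitRel.Quotient A X) := Fintype.ofFinite _
  rw [← Finset.sum_fiberwise Finset.univ (fun x : X => (Quotient.mk'' x : orbitRel.Quotient A X)),
    Nat.card_eq_fintype_card, ← Finset.card_univ, Finset.card_eq_sum_ones, Nat.cast_sum]
  refine Finset.sum_le_sum fun q _ => ?_
  obtain ⟨y, rfl⟩ := Quotient.mk''_surjective q
  have hpos : (0 : ℚ) < Nat.card (orbit A y) := by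
    haveI : Nonempty (orbit A y) := ⟨⟨y, mem_orbit_self y⟩⟩
    exact_mod_cast Nat.card_pos
  have hc : Nat.card (orbit A y) = (Finset.univ.filter fun x : X =>
      (Quotient.mk'' x : orbitRel.Quotient A X) = Quotient.mk'' y).card :=
    Nat.subtype_card _ fun x => by
      rw [Finset.mem_filter, Quotient.eq'', orbitRel_apply]; simp
  refine le_trans ?_ (Finset.card_nsmul_le_sum _ _ (1 / (Nat.card (orbit A y) : ℚ)) fun x hx => ?_)
  · rw [← hc, nsmul_eq_mul, mul_one_div_cancel hpos.ne']; simp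
  · rw [Finset.mem_filter, Quotient.eq'', orbitRel_apply] at hx
    rw [div_le_iff₀ hpos, ← orbit_eq_iff.mpr hx.2]
    exact hw x

theorem card_orbits_le_conj [Finite G] :
    Nat.card (orbitRel.Quotient (MulAut G) G) ≤ Nat.card (ConjClasses G) := by
  refine Nat.card_le_card_of_surjective (Quotient.map' id fun a b (h : IsConj a b) => ?_) ?_
  · obtain ⟨c, hc⟩ := isConj_iff.mp h.symm
    exact ⟨MulAut.conj c, hc⟩
  · intro q
    obtain ⟨y, rfl⟩ := Quotient.mk''_surjective q
    exact ⟨Quotient.mk'' y, rfl⟩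

open CfsgLib.Char CfsgLib.ChDeg in
theorem classes_bound [Finite G] :
    (Nat.card G).minFac ^ 2 * Nat.card (ConjClasses G) + (commutator G).index ≤
      Nat.card G + (Nat.card G).minFac ^ 2 * (commutator G).index := by
  classical
  set p := (Nat.card G).minFac
  have h1 : (Finset.univ.filter fun χ : IrrCharacter G => (χ : G → ℂ) 1 = 1).card =
      (commutator G).index := by
    rw [← card_linear_irr]; exact (Nat.subtype_card _ (by simp)).symm
  rw [← card_irr_eq_card_conjClasses, Nat.card_eq_fintype_card, ← Finset.card_univ,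
    ← Finset.card_filter_add_card_filter_not (fun χ : IrrCharacter G => (χ : G → ℂ) 1 = 1), h1]
  have h2 := sum_deg_sq (G := G)
  rw [← Finset.sum_filter_add_sum_filter_not _ (fun χ : IrrCharacter G => (χ : G → ℂ) 1 = 1)] at h2
  have h3 := Finset.card_nsmul_le_sum (Finset.univ.filter fun χ : IrrCharacter G =>
    (χ : G → ℂ) 1 = 1) (fun χ => charDegree (χ : G → ℂ) ^ 2) 1 fun χ _ =>
      Nat.one_le_pow _ _ (deg_pos χ.2)
  have h4 := Finset.card_nsmul_le_sum (Finset.univ.filter fun χ : IrrCharacter G =>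
    ¬ (χ : G → ℂ) 1 = 1) (fun χ => charDegree (χ : G → ℂ) ^ 2) (p ^ 2) fun χ hχ =>
      Nat.pow_le_pow_left (Nat.minFac_le_of_dvd (by
        have := deg_pos χ.2
        have := mt (deg_eq_one_iff (irr_isCharacter χ)).mp (Finset.mem_filter.mp hχ).2
        omega) (deg_dvd_card χ.2)) 2
  rw [smul_eq_mul] at h3 h4
  rw [h1] at h3
  nlinarith

theorem minFac_le_relIndex [Finite G] {H K : Subgroup G} (hHK : H ≤ K) (hne : ¬ K ≤ H) :
    Nat.card H * (Nat.card G).minFac ≤ Nat.card K := by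
  have h1 := (H.subgroupOf K).card_mul_index
  rw [Nat.card_congr (subgroupOfEquivOfLe hHK).toEquiv] at h1
  rw [← h1]
  refine Nat.mul_le_mul_left _ (Nat.minFac_le_of_dvd ?_
    ((H.subgroupOf K).index_dvd_card.trans K.card_subgroup_dvd_card))
  have h2 : (H.subgroupOf K).index ≠ 1 := fun e => hne (subgroupOf_eq_top.mp (index_eq_one.mp e))
  have h3 : (H.subgroupOf K).index ≠ 0 := index_ne_zero_of_finite
  omega

theorem le_center_of_card_minFac [Finite G] {N : Subgroup G} [N.Normal]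
    (hp : (Nat.card G).minFac.Prime) (hN : Nat.card N = (Nat.card G).minFac) : N ≤ center G := by
  haveI := Fact.mk hp
  haveI : IsCyclic N := isCyclic_of_prime_card hN
  have e1 := card_subgroup_dvd_card (MulAut.conjNormal : G →* MulAut N).range
  rw [IsCyclic.card_mulAut, hN, Nat.totient_prime hp] at e1
  have e2 := card_range_dvd (MulAut.conjNormal : G →* MulAut N)
  have e3 := Nat.le_of_dvd (Nat.sub_pos_of_lt hp.one_lt) e1
  have e4 : Nat.card (MulAut.conjNormal : G →* MulAut N).range = 1 := by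
    by_contra h
    have : 0 < Nat.card (MulAut.conjNormal : G →* MulAut N).range := Nat.card_pos
    have := Nat.minFac_le_of_dvd (by omega) e2
    have := hp.pos
    omega
  intro n hn
  refine mem_center_iff.mpr fun g => mul_inv_eq_iff_eq_mul.mp ?_
  have : MulAut.conjNormal g = (1 : MulAut N) :=
    mem_bot.mp (card_eq_one.mp e4 ▸ MonoidHom.mem_range.mpr ⟨g, rfl⟩)
  exact congrArg (fun φ : MulAut N => (φ ⟨n, hn⟩ : G)) this

section ClassTwo

variable (hZ : commutator G ≤ center G)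
include hZ

theorem comm_cen (a b g : G) : g * ⁅a, b⁆ = ⁅a, b⁆ * g :=
  mem_center_iff.mp (hZ (commutator_mem_commutator (mem_top a) (mem_top b))) g

/-- The map `g ↦ ⁅g, b⁆` when commutators are central. -/
def commHom (b : G) : G →* G := MonoidHom.mk' (fun g => ⁅g, b⁆) fun x y => by
  calc ⁅x * y, b⁆ = x * ⁅y, b⁆ * x⁻¹ * ⁅x, b⁆ := by simp only [commutatorElement_def]; group
    _ = _ := by rw [comm_cen hZ y b x, mul_inv_cancel_right, comm_cen hZ x b]

theorem mul_pow_two (a b : G) (n : ℕ) : (a * b) ^ n = a ^ n * b ^ n * ⁅b, a⁆ ^ n.choose 2 := by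
  induction n with
  | zero => simp
  | succ n ih =>
    have e : b ^ n * a = a * b ^ n * ⁅b, a⁆ ^ n := by
      rw [show ⁅b, a⁆ ^ n = ⁅b ^ n, a⁆ from (map_pow (commHom hZ a) b n).symm, comm_cen hZ,
        commutatorElement_def]
      group
    have hc : ∀ (k : ℕ) (g : G), ⁅b, a⁆ ^ k * g = g * ⁅b, a⁆ ^ k := fun k g =>
      (Commute.pow_right (comm_cen hZ b a g) k).symm
    rw [pow_succ, ih, Nat.choose_succ_succ, Nat.choose_one_right, pow_add ⁅b, a⁆, mul_assoc, hc,
      ← mul_assoc, ← mul_assoc, mul_assoc (a ^ n), e, pow_succ a, pow_succ b]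
    simp only [mul_assoc]
    rw [← mul_assoc (⁅b, a⁆ ^ n), hc, mul_assoc]

variable [Finite G] {p : ℕ} (hp : p.Prime) (hc : Nat.card (commutator G) = p)
include hp hc

theorem range_commHom {b : G} (hb : b ∉ center G) : (commHom hZ b).range = commutator G := by
  haveI := Fact.mk hp
  have hle : (commHom hZ b).range ≤ commutator G := by
    rintro _ ⟨g, rfl⟩
    exact commutator_mem_commutator (mem_top g) (mem_top b)
  refine eq_of_le_of_card_ge hle ?_
  rcases (Nat.dvd_prime hp).mp (hc ▸ card_dvd_of_le hle) with e | e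
  · refine absurd (mem_center_iff.mpr fun g => commutatorElement_eq_one_iff_mul_comm.mp ?_) hb
    exact mem_bot.mp (card_eq_one.mp e ▸ MonoidHom.mem_range.mpr ⟨g, rfl⟩)
  · rw [e, hc]

omit [Finite G] hp in
theorem pow_mem_center (x : G) : x ^ p ∈ center G := by
  refine mem_center_iff.mpr fun g => (commutatorElement_eq_one_iff_mul_comm.mp ?_).symm
  rw [show ⁅x ^ p, g⁆ = ⁅x, g⁆ ^ p from map_pow (commHom hZ g) x p]
  exact congrArg Subtype.val (hc ▸ pow_card_eq_one' (G := commutator G)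
    (x := ⟨_, commutator_mem_commutator (mem_top x) (mem_top g)⟩))

theorem lt_index_center (hm : (Nat.card G).minFac = p) :
    p * p * Nat.card (center G) ≤ Nat.card G := by
  obtain ⟨b, hb⟩ : ∃ b, b ∉ center G := by
    by_contra! h
    have : commutator G = ⊥ := le_bot_iff.mp (commutator_le.mpr fun x _ y _ =>
      commutatorElement_eq_one_iff_mul_comm.mpr (mem_center_iff.mp (h y) x))
    rw [this, card_bot] at hc
    exact hp.one_lt.ne hc
  have h1 := (commHom hZ b).ker.card_mul_index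
  rw [index_ker, range_commHom hZ hp hc hb, hc] at h1
  have h2 := minFac_le_relIndex (H := center G) (K := (commHom hZ b).ker)
    (fun z hz => commutatorElement_eq_one_iff_mul_comm.mpr (mem_center_iff.mp hz b).symm)
    fun h => hb (h (commutatorElement_self b))
  rw [hm] at h2
  rw [← h1]
  nlinarith

theorem exists_odd (hm : (Nat.card G).minFac = p) (h2 : p ≠ 2)
    (hz : ∀ z ∈ center G, z ^ p = 1 → z ∈ commutator G) : ∃ b ∉ center G, b ^ p = 1 := by
  by_contra! h
  let ψ : G →* G := MonoidHom.mk' (fun x => x ^ p) fun x y => by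
    obtain ⟨k, hk⟩ := hp.dvd_choose_self two_ne_zero (lt_of_le_of_ne hp.two_le h2.symm)
    have : ⁅y, x⁆ ^ p = 1 := congrArg Subtype.val (hc ▸ pow_card_eq_one' (G := commutator G)
      (x := ⟨_, commutator_mem_commutator (mem_top y) (mem_top x)⟩))
    rw [mul_pow_two hZ, hk, pow_mul, this, one_pow, mul_one]
  have h1 := ψ.ker.card_mul_index
  have h3 : Nat.card ψ.ker ≤ p := hc ▸ card_le_of_le fun x hx =>
    hz x (by_contra fun e => h x e hx) hx
  have h4 : ψ.ker.index ≤ Nat.card (center G) := by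
    rw [index_ker]
    exact card_le_of_le (by rintro _ ⟨x, rfl⟩; exact pow_mem_center hZ hc x)
  have h5 := lt_index_center hZ hp hc hm
  have h6 : 0 < Nat.card (center G) := Nat.card_pos
  have h7 := hp.two_le
  have h8 := Nat.mul_le_mul h3 h4
  nlinarith

end ClassTwo

theorem exists_two [Finite G] (hZ : commutator G ≤ center G) (hc : Nat.card (commutator G) = 2)
    (hm : (Nat.card G).minFac = 2) (hz : ∀ z ∈ center G, z ^ 2 = 1 → z ∈ commutator G) :
    ∃ b ∉ center G, b ^ 2 ≠ 1 ∧ b ^ 2 ∈ commutator G := by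
  by_contra! h
  have hsq : ∀ x ∈ commutator G, x ^ 2 = 1 := fun x hx =>
    congrArg Subtype.val (hc ▸ pow_card_eq_one' (G := commutator G) (x := ⟨x, hx⟩))
  let ψ : G →* G := MonoidHom.mk' (fun x => x ^ 4) fun x y => by
    rw [mul_pow_two hZ, show Nat.choose 4 2 = 2 * 3 from rfl, pow_mul,
      hsq _ (commutator_mem_commutator (mem_top y) (mem_top x)), one_pow, mul_one]
  have hK : ∀ x ∈ ψ.ker, x ^ 2 ∈ commutator G := fun x hx =>
    hz _ (pow_mem_center hZ hc x) (by rw [← pow_mul]; exact hx)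
  let s : center G →* center G := MonoidHom.mk' (fun x => x ^ 2) fun x y =>
    Commute.mul_pow (Subtype.ext (mem_center_iff.mp y.2 x)) 2
  have h1 := ψ.ker.card_mul_index
  have h2 := s.ker.card_mul_index
  have h3 : ψ.ker.index ≤ s.ker.index := by
    rw [index_ker, index_ker, ← card_map_of_injective (center G).subtype_injective]
    refine card_le_of_le ?_
    rintro _ ⟨x, rfl⟩
    exact ⟨_, ⟨⟨_, pow_mem_center hZ hc x⟩, rfl⟩, (pow_mul x 2 2).symm⟩
  have h4 : 2 ≤ Nat.card s.ker := by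
    rw [← hc, ← card_map_of_injective (center G).subtype_injective (K := s.ker)]
    exact card_le_of_le fun x hx => ⟨⟨x, hZ hx⟩, Subtype.ext (hsq x hx), rfl⟩
  have h5 := lt_index_center hZ Nat.prime_two hc hm
  have h6 : 0 < Nat.card (center G) := Nat.card_pos
  have h7 : 2 * Nat.card G ≤ Nat.card ψ.ker * Nat.card (center G) := by
    have := Nat.mul_le_mul h4 h3
    rw [h2] at this
    rw [← h1]
    nlinarith
  by_cases hw : ∃ w ∈ center G, w ^ 2 ≠ 1 ∧ w ^ 2 ∈ commutator G
  · obtain ⟨w, hw, hw1, hw2⟩ := hw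
    have hKZ : ψ.ker ≤ center G := fun x hx => by_contra fun e => by
      have e1 : x ^ 2 = 1 := by_contra fun e1 => h x e e1 (hK x hx)
      have e2 : (x * w) ^ 2 = w ^ 2 := by
        rw [Commute.mul_pow (mem_center_iff.mp hw x), e1, one_mul]
      exact h (x * w) (fun e3 => e ((mul_mem_cancel_right hw).mp e3)) (e2 ▸ hw1) (e2 ▸ hw2)
    let t : ψ.ker →* G := MonoidHom.mk' (fun x => (x : G) ^ 2) fun x y =>
      Commute.mul_pow (mem_center_iff.mp (hKZ y.2) x) 2
    have e1 := t.ker.card_mul_index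
    have e2 : t.ker.index ≤ 2 := by
      rw [index_ker, ← hc]
      exact card_le_of_le (by rintro _ ⟨x, rfl⟩; exact hK x x.2)
    have e3 : Nat.card t.ker ≤ 2 := by
      rw [← hc, ← card_map_of_injective ψ.ker.subtype_injective]
      exact card_le_of_le (by rintro _ ⟨x, hx, rfl⟩; exact hz _ (hKZ x.2) hx)
    have := Nat.mul_le_mul e3 e2
    nlinarith
  · push Not at hw
    have hK2 : ∀ x ∈ ψ.ker, x ^ 2 = 1 := fun x hx => by_contra fun e =>
      (em (x ∈ center G)).elim (fun e1 => hw x e1 e (hK x hx)) fun e1 => h x e1 e (hK x hx)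
    have e1 : Nat.card (ψ.ker ⊓ center G : Subgroup G) ≤ 2 :=
      hc ▸ card_le_of_le fun x hx => hz x hx.2 (hK2 x hx.1)
    have e2 := Core.card_sup_mul_card_inf_of_normal ψ.ker (center G)
    have e3 : ψ.ker ⊔ center G = ⊤ := by
      refine eq_top_of_le_card _ ?_
      have := Nat.mul_le_mul_left (Nat.card (ψ.ker ⊔ center G : Subgroup G)) e1
      omega
    have : commutator G = ⊥ := le_bot_iff.mp (commutator_le.mpr fun x _ y _ => by
      obtain ⟨k, hk, z, hz', rfl⟩ := mem_sup_of_normal_right.mp (e3 ▸ mem_top x)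
      obtain ⟨l, hl, u, hu, rfl⟩ := mem_sup_of_normal_right.mp (e3 ▸ mem_top y)
      have hkl : Commute k l := by
        have a1 := hK2 k hk
        have a2 := hK2 l hl
        have a3 := hK2 _ (mul_mem hk hl)
        rw [sq] at a1 a2 a3
        rw [Commute, SemiconjBy, ← inv_eq_of_mul_eq_one_right a3, mul_inv_rev,
          inv_eq_of_mul_eq_one_right a1, inv_eq_of_mul_eq_one_right a2]
      exact commutatorElement_eq_one_iff_commute.mpr
        ((hkl.mul_right (mem_center_iff.mp hu k)).mul_left (mem_center_iff.mp hz' _).symm))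
    rw [this, card_bot] at hc
    omega

theorem card_le_orbit [Finite G] {H : Subgroup G} {g : G}
    (h : ∀ x ∈ H, ∃ α : MulAut G, α g = g * x) : Nat.card H ≤ Nat.card (orbit (MulAut G) g) :=
  Nat.card_le_card_of_injective (fun x : H => (⟨g * x, h x x.2⟩ : orbit (MulAut G) g))
    fun _ _ e => Subtype.ext (mul_left_cancel (congrArg Subtype.val e))

theorem key [Finite G] (hZ : commutator G ≤ center G) {p : ℕ} (hp : p.Prime)
    (hc : Nat.card (commutator G) = p) (hm : (Nat.card G).minFac = p) {c b : G}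
    (hcZ : c ∉ center G) (hbc : ⁅b, c⁆ = 1) (hb : ∀ m, ⁅m, c⁆ = 1 → m * b = b * m)
    (hb' : b ∉ commutator G) (hpw : ∀ a, ⁅a, c⁆ ≠ 1 → (a * b) ^ p = a ^ p) :
    p * Nat.card (orbitRel.Quotient (MulAut G) G) ≤ Nat.card G := by
  classical
  haveI := Fact.mk hp
  haveI := Fintype.ofFinite G
  set M := (commHom hZ c).ker with hM
  have hMi : M.index = p := by rw [index_ker, range_commHom hZ hp hc hcZ, hc]
  have hZM : center G ≤ M := fun z hz =>
    commutatorElement_eq_one_iff_mul_comm.mpr (mem_center_iff.mp hz c).symm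
  have o1 : ∀ g ∉ center G, p ≤ Nat.card (orbit (MulAut G) g) := fun g hg => by
    refine hc ▸ card_le_orbit fun x hx => ?_
    obtain ⟨y, rfl⟩ := (range_commHom hZ hp hc hg).ge hx
    refine ⟨MulAut.conj y, ?_⟩
    change y * g * y⁻¹ = g * ⁅y, g⁆
    rw [comm_cen hZ, commutatorElement_def, inv_mul_cancel_right]
  have o2 : ∀ g ∉ M, p * p ≤ Nat.card (orbit (MulAut G) g) := fun g hg => by
    let S : Submonoid G :=
      { carrier := {x | x ∈ M ∧ ∃ α : MulAut G, α g = g * x ∧ ∀ m ∈ M, α m = m}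
        one_mem' := ⟨one_mem _, 1, by simp, fun _ _ => rfl⟩
        mul_mem' := by
          rintro x y ⟨hx, α, e1, e2⟩ ⟨hy, β, e3, e4⟩
          refine ⟨mul_mem hx hy, α * β, ?_, fun m hm => ?_⟩
          · rw [MulAut.mul_apply, e3, map_mul, e1, e2 y hy, mul_assoc]
          · rw [MulAut.mul_apply, e4 m hm, e2 m hm] }
    let S' : Subgroup G := ⟨S, fun {x} hx => by
      rw [← mul_left_inj x, inv_mul_cancel, ← pow_succ, Nat.sub_add_cancel (orderOf_pos x),
        pow_orderOf_eq_one] |> fun (e : x⁻¹ = x ^ (orderOf x - 1)) => e ▸ S.pow_mem hx _⟩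
    have h1 : ⁅g⁻¹, c⁆ ∈ S' := ⟨hZM (hZ (commutator_mem_commutator (mem_top _) (mem_top _))),
      MulAut.conj c, by simp [commutatorElement_def, mul_assoc], fun m hm => by
        rw [MulAut.conj_apply, ← commutatorElement_eq_one_iff_mul_comm.mp hm, mul_inv_cancel_right]⟩
    have h2 : commutator G ≤ S' := by
      refine le_trans (eq_of_le_of_card_ge (zpowers_le.mpr
        (commutator_mem_commutator (mem_top g⁻¹) (mem_top c))) ?_).ge (zpowers_le.mpr h1)
      rw [Nat.card_zpowers, orderOf_eq_prime (x := ⁅g⁻¹, c⁆) (congrArg Subtype.val (hc ▸ pow_card_eq_one'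
        (G := commutator G) (x := ⟨_, commutator_mem_commutator (mem_top g⁻¹) (mem_top c)⟩)))
        fun e => hg (inv_mem_iff.mp e)]
      exact hc.le
    have h3 : b ∈ S' := ⟨hbc, exists_mulAut hp hMi hg (fun e => hg ((mul_mem_cancel_right hbc).mp e))
      (fun m hm => by rw [mul_assoc g, ← hb m hm]; group) (hpw g hg)⟩
    have h4 := minFac_le_relIndex h2 fun e => hb' (e h3)
    rw [hc, hm] at h4
    exact h4.trans (card_le_orbit fun x hx => hx.2.imp fun _ e => e.1)
  have hp0 : (0 : ℚ) < p := by exact_mod_cast hp.pos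
  have hp2 : (2 : ℚ) ≤ p := by exact_mod_cast hp.two_le
  have h := card_orbits_le (A := MulAut G) (fun g : G => 1 / (p * p : ℚ) +
    (if g ∈ M then 1 / (p : ℚ) - 1 / (p * p : ℚ) else 0) +
    (if g ∈ center G then 1 - 1 / (p : ℚ) else 0)) fun g => by
      by_cases h1 : g ∈ center G
      · haveI : Nonempty (orbit (MulAut G) g) := ⟨⟨g, mem_orbit_self g⟩⟩
        have : (1 : ℚ) ≤ Nat.card (orbit (MulAut G) g) := by exact_mod_cast Nat.card_pos
        rw [if_pos h1, if_pos (hZM h1)]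
        linarith
      rw [if_neg h1]
      by_cases h2 : g ∈ M
      · rw [if_pos h2, add_sub_cancel, add_zero, one_div, ← div_eq_inv_mul, le_div_iff₀ hp0, one_mul]
        exact_mod_cast o1 g h1
      · rw [if_neg h2, add_zero, add_zero, one_div, ← div_eq_inv_mul,
          le_div_iff₀ (mul_pos hp0 hp0), one_mul]
        exact_mod_cast o2 g h2
  have hs : ∀ (H : Subgroup G) [DecidablePred (· ∈ H)] (t : ℚ),
      ∑ g : G, (if g ∈ H then t else 0) = Nat.card H * t := fun H _ t => by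
      rw [← Finset.sum_filter, Finset.sum_const, nsmul_eq_mul,
        Nat.subtype_card (Finset.univ.filter (· ∈ H)) (by simp)]
  rw [Finset.sum_add_distrib, Finset.sum_add_distrib, hs, hs, Finset.sum_const, Finset.card_univ,
    nsmul_eq_mul, ← Nat.card_eq_fintype_card] at h
  have e1 : (Nat.card G : ℚ) = Nat.card M * p := by exact_mod_cast (hMi ▸ M.card_mul_index).symm
  have e2 : (Nat.card (center G) : ℚ) * p ≤ Nat.card M := by
    exact_mod_cast hm ▸ minFac_le_relIndex hZM fun e => hcZ (e (commutatorElement_self c))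
  have e3 : (0 : ℚ) ≤ Nat.card M := Nat.cast_nonneg _
  suffices (p : ℚ) * Nat.card (orbitRel.Quotient (MulAut G) G) ≤ Nat.card G by exact_mod_cast this
  refine (mul_le_mul_of_nonneg_left h hp0.le).trans ?_
  rw [e1, ← mul_le_mul_iff_right₀ hp0]
  have e4 : (p : ℚ) * (p * (Nat.card M * p * (1 / (p * p)) + Nat.card M * (1 / p - 1 / (p * p)) +
      Nat.card (center G) * (1 - 1 / p))) =
      Nat.card M * p + Nat.card M * (p - 1) + Nat.card (center G) * p * (p - 1) := by
    field_simp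
  rw [e4]
  nlinarith [mul_le_mul_of_nonneg_right e2 (show (0 : ℚ) ≤ p - 1 by linarith),
    mul_nonneg e3 (mul_nonneg (show (0 : ℚ) ≤ p - 1 by linarith) (show (0 : ℚ) ≤ p - 2 by linarith))]

theorem s4067 [Finite G] (hna : ¬ IsMulCommutative G) :
    Nat.card (orbitRel.Quotient (MulAut G) G) ≤ Nat.card G / (Nat.card G).minFac := by
  obtain ⟨c, hcZ⟩ : ∃ c, c ∉ center G := by
    by_contra! h
    exact hna ⟨⟨fun a b => mem_center_iff.mp (h b) a⟩⟩
  have hG' : ¬ commutator G ≤ ⊥ := fun h => hna ⟨⟨fun a b =>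
    commutatorElement_eq_one_iff_mul_comm.mp (h (commutator_mem_commutator (mem_top a) (mem_top b)))⟩⟩
  haveI : Nontrivial G := ⟨⟨c, 1, fun e => hcZ (e ▸ one_mem _)⟩⟩
  have hp := Nat.minFac_prime (Finite.one_lt_card (α := G)).ne'
  rw [Nat.le_div_iff_mul_le hp.pos, mul_comm]
  have h1 := minFac_le_relIndex bot_le hG'
  rw [card_bot, one_mul] at h1
  rcases h1.lt_or_eq with h1 | hc
  · refine (Nat.mul_le_mul_left _ card_orbits_le_conj).trans ?_
    have h2 := classes_bound (G := G)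
    have h3 := (commutator G).card_mul_index
    have h4 := hp.pos
    generalize (Nat.card G).minFac = p at *
    obtain ⟨q, rfl⟩ := Nat.exists_eq_add_of_lt h4
    refine Nat.le_of_mul_le_mul_left ?_ h4
    have h5 := Nat.mul_le_mul_right (commutator G).index (Nat.succ_le_of_lt h1)
    rw [h3] at h5
    have h6 := Nat.mul_le_mul_left q h5
    nlinarith
  have hZ := le_center_of_card_minFac hp hc.symm
  generalize hm : (Nat.card G).minFac = p at *
  by_cases hz : ∀ z ∈ center G, z ^ p = 1 → z ∈ commutator G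
  · have fin : ∀ b ∉ center G, (∀ a, ⁅a, b⁆ ≠ 1 → (a * b) ^ p = a ^ p) →
        p * Nat.card (orbitRel.Quotient (MulAut G) G) ≤ Nat.card G := fun b hb h =>
      key hZ hp hc.symm hm hb (commutatorElement_self b)
        (fun m => commutatorElement_eq_one_iff_mul_comm.mp) (fun e => hb (hZ e)) h
    have hpw : ∀ x ∈ commutator G, x ^ p = 1 := fun x hx =>
      congrArg Subtype.val (hc ▸ pow_card_eq_one' (G := commutator G) (x := ⟨x, hx⟩))
    by_cases h2 : p = 2
    · subst h2
      obtain ⟨b, hb, hb1, hb2⟩ := exists_two hZ hc.symm hm hz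
      refine fin b hb fun a ha => ?_
      obtain ⟨y, -, hy⟩ := (Nat.card_eq_two_iff' (1 : commutator G)).mp hc.symm
      have e : b ^ 2 = ⁅b, a⁆ := congrArg Subtype.val ((hy ⟨_, hb2⟩
        fun e => hb1 (congrArg Subtype.val e)).trans (hy ⟨_, commutator_mem_commutator (mem_top b)
          (mem_top a)⟩ fun e => ha (by
            rw [← commutatorElement_inv, show ⁅b, a⁆ = 1 from congrArg Subtype.val e, inv_one])).symm)
      rw [mul_pow_two hZ, Nat.choose_self, pow_one, ← e, mul_assoc, ← sq, hpw _ hb2, mul_one]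
    · obtain ⟨b, hb, hb1⟩ := exists_odd hZ hp hc.symm hm h2 hz
      refine fin b hb fun a _ => ?_
      obtain ⟨k, hk⟩ := hp.dvd_choose_self two_ne_zero (lt_of_le_of_ne hp.two_le (Ne.symm h2))
      rw [mul_pow_two hZ, hk, pow_mul, hpw _ (commutator_mem_commutator (mem_top b) (mem_top a)),
        hb1, one_pow, mul_one, mul_one]
  · push Not at hz
    obtain ⟨z, hz, hz1, hz2⟩ := hz
    exact key hZ hp hc.symm hm hcZ
      (commutatorElement_eq_one_iff_mul_comm.mpr (mem_center_iff.mp hz c).symm)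
      (fun m _ => mem_center_iff.mp hz m) hz2 fun a _ => by
        rw [Commute.mul_pow (mem_center_iff.mp hz a), hz1, mul_one]

end CfsgLib.AutOrb
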